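import Groth.Agent.EtpbcA.TorsionColim
import Groth.Agent.Sga1.UlaColim
import Groth.Agent.Sga2lef.H338.HpullDev

/-!
# Devissage of torsion sheaves to sheaves killed by a prime

* `killed_induct`: a property of abelian sheaves stable under isomorphisms and extensions, true for
  zero sheaves and for sheaves killed by a prime, is true for sheaves killed by some `m > 0`;
* `torsion_induct`: if moreover it passes to filtered colimits it is true for torsion sheaves;
* `Bij i F`: `Hpull i F q` is bijective for all `q`; stability lemmas and `bij_of_prime`.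
-/

set_option autoImplicit false
universe u
open CategoryTheory CategoryTheory.Limits AlgebraicGeometry Opposite

namespace Groth.Agent.SGA4h.K445.TorsDev

open Groth.Agent.EtpbcA.Present Groth.Agent.EtpbcA.TorsionColim

variable {X : Scheme.{u}}

theorem shortExact_ker {C : Type*} [Category C] [Abelian C] {F G : C} (φ : F ⟶ G) :
    (ShortComplex.mk (kernel.ι φ) (Abelian.factorThruImage φ)
    (by rw [← cancel_mono (Abelian.image.ι φ)]; simp)).ShortExact := by
  refine ShortComplex.ShortExact.mk' ?_ inferInstance inferInstance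
  refine ShortComplex.exact_of_f_is_kernel _ ?_
  exact KernelFork.IsLimit.ofι' (kernel.ι φ) _ fun {A} k hk' =>
    ⟨kernel.lift φ k (by rw [← Abelian.image.fac φ, ← Category.assoc]; erw [hk']; exact zero_comp),
      kernel.lift_ι _ _ _⟩

theorem killed_induct (P : EtCoh.Ab X → Prop)
    (hzero : ∀ F : EtCoh.Ab X, IsZero F → P F)
    (hext : ∀ S : ShortComplex (EtCoh.Ab X), S.ShortExact → P S.X₁ → P S.X₃ → P S.X₂)
    (hp : ∀ ℓ : ℕ, ℓ.Prime → ∀ F : EtCoh.Ab X, EtCoh.KilledBy ℓ F → P F) (m : ℕ) :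
    0 < m → ∀ F : EtCoh.Ab X, EtCoh.KilledBy m F → P F := by
  induction m using Nat.strong_induction_on with
  | _ m ih =>
    intro hm F hF
    by_cases h1 : m = 1
    · subst h1
      refine hzero F ?_
      rw [IsZero.iff_id_eq_zero]
      have := (killedBy_iff 1 F).1 hF
      rwa [one_nsmul] at this
    by_cases hpr : m.Prime
    · exact hp m hpr F hF
    obtain ⟨p, hpp, hpm⟩ := Nat.exists_prime_and_dvd h1
    obtain ⟨m', rfl⟩ := hpm
    have hm' : 0 < m' := Nat.pos_of_mul_pos_left hm |> fun h => by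
      rcases Nat.eq_zero_or_pos m' with h0 | h0
      · subst h0; simp at hm
      · exact h0
    let φ : F ⟶ F := p • 𝟙 F
    have hS : (ShortComplex.mk (kernel.ι φ) (Abelian.factorThruImage φ)
        (by rw [← cancel_mono (Abelian.image.ι φ)]; simp)).ShortExact :=
      shortExact_ker φ
    refine hext _ hS (ih p ?_ hpp.pos _ ?_) (ih m' ?_ hm' _ ?_)
    · have : 2 ≤ m' := by
        rcases m' with _ | _ | m'
        · simp at hm
        · simp at hpr
          exact absurd hpp hpr
        · omega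
      nlinarith [hpp.two_le]
    · change EtCoh.KilledBy p (kernel φ)
      rw [killedBy_iff]
      rw [← cancel_mono (kernel.ι φ), Preadditive.nsmul_comp, Category.id_comp, zero_comp]
      have := kernel.condition φ
      rwa [Preadditive.comp_nsmul, Category.comp_id] at this
    · nlinarith [hpp.two_le]
    · change EtCoh.KilledBy m' (Abelian.image φ)
      rw [killedBy_iff]
      rw [← cancel_epi (Abelian.factorThruImage φ), Preadditive.comp_nsmul, Category.comp_id,
        comp_zero, ← cancel_mono (Abelian.image.ι φ), Preadditive.nsmul_comp,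
        Abelian.image.fac, zero_comp]
      change m' • (p • 𝟙 F) = 0
      rw [← mul_nsmul]
      exact (killedBy_iff _ _).1 hF

theorem torsion_induct [CompactSpace X] [QuasiSeparatedSpace X] (P : EtCoh.Ab X → Prop)
    (hiso : ∀ {F G : EtCoh.Ab X} (_ : F ≅ G), P F → P G)
    (hzero : ∀ F : EtCoh.Ab X, IsZero F → P F)
    (hext : ∀ S : ShortComplex (EtCoh.Ab X), S.ShortExact → P S.X₁ → P S.X₃ → P S.X₂)
    (hp : ∀ ℓ : ℕ, ℓ.Prime → ∀ F : EtCoh.Ab X, EtCoh.KilledBy ℓ F → P F)
    (hcol : ∀ (J : Type (u + 1)) [SmallCategory J] [IsFiltered J] (K : J ⥤ EtCoh.Ab X)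
      (c : Cocone K) (_ : IsColimit c), (∀ j, P (K.obj j)) → P c.pt)
    (F : EtCoh.Ab X) (hF : EtCoh.IsTorsion F) : P F := by
  obtain ⟨J, h1, h2, D, c, hc, h, ⟨e⟩⟩ := exists_filtered_consM dir_pos F (by
    intro U s x
    obtain ⟨V, g, ⟨v, hv⟩, h⟩ := hF U s x
    obtain ⟨n, hn, h0⟩ := isOfFinAddOrder_iff_nsmul_eq_zero.1 h
    exact ⟨V, g, v, hv, n, hn, h0⟩)
  refine hiso e (hcol J D c hc fun j => ?_)
  obtain ⟨-, m, hm, hk⟩ := h j
  exact killed_induct P hzero hext hp m hm _ hk

/-- `Hpull i F q` is bijective for all `q`. -/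
def Bij {Y : Scheme.{u}} (i : Y ⟶ X) [PreservesFiniteLimits (EtCoh.pull i)] (F : EtCoh.Ab X) : Prop :=
  ∀ q : ℕ, Function.Bijective (EtCore.Hpull i F q)

section

open Groth.Agent.Sga2lef.H338.HpullDev

variable {Y : Scheme.{u}} (i : Y ⟶ X) [PreservesFiniteLimits (EtCoh.pull i)]

theorem bij_iff (F : EtCoh.Ab X) : Bij i F ↔ ∀ n, Concl i 0 n F := by
  constructor
  · intro h n
    exact ⟨fun q _ => h q, fun q _ => (h q).1⟩
  · intro h q
    exact (h (q + 2)).1 q (by omega)

theorem bij_of_iso {F G : EtCoh.Ab X} (e : F ≅ G) (h : Bij i F) : Bij i G := by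
  rw [bij_iff] at h ⊢
  exact fun n => concl_of_iso e (h n)

theorem bij_of_isZero {F : EtCoh.Ab X} (h : IsZero F) : Bij i F := by
  rw [bij_iff]
  exact fun n => concl_of_isZero h

theorem bij_middle {S : ShortComplex (EtCoh.Ab X)} (hS : S.ShortExact)
    (h1 : Bij i S.X₁) (h3 : Bij i S.X₃) : Bij i S.X₂ := by
  rw [bij_iff] at h1 h3 ⊢
  exact fun n => concl_middle hS (h1 n) (h3 n)

/-- From sheaves killed by a prime to all torsion sheaves. -/
theorem bij_of_prime [CompactSpace X] [QuasiSeparatedSpace X] [CompactSpace Y]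
    [QuasiSeparatedSpace Y]
    (hp : ∀ ℓ : ℕ, ℓ.Prime → ∀ F : EtCoh.Ab X, EtCoh.KilledBy ℓ F → Bij i F)
    (F : EtCoh.Ab X) (hF : EtCoh.IsTorsion F) : Bij i F :=
  torsion_induct (Bij i) (bij_of_iso i) (fun _ h => bij_of_isZero i h)
    (fun _ hS h1 h3 => bij_middle i hS h1 h3) hp
    (fun _ _ _ _ c hc h q => Groth.Agent.Sga1.UlaColim.Hpull_bijective_of_isColimit i q c hc
      fun j => h j q) F hF

end

end Groth.Agent.SGA4h.K445.TorsDev
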