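import Mathlib.AlgebraicGeometry.AffineSpace
import Mathlib.AlgebraicGeometry.Morphisms.QuasiFinite
import Mathlib.AlgebraicGeometry.Morphisms.Etale
import Mathlib.RingTheory.MvPolynomial.Basic
import Mathlib.Algebra.MvPolynomial.Equiv

/-!
# Closed points of affine space and finiteness of supports
-/

set_option autoImplicit false
universe u

open CategoryTheory CategoryTheory.Limits AlgebraicGeometry TopologicalSpace

namespace Groth.Agent.SGA4h.K445.AffClosed

section Alg

variable {k : Type u} [Field k] {ι : Type u}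

/-- A prime ideal of `k[X_i]` (finitely many variables) whose trace on each `k[X_i]` is nonzero is maximal. -/
theorem isMaximal_of_comap_ne_bot (P : Ideal (MvPolynomial ι k)) [P.IsPrime]
    (h : ∀ i : ι, P.comap (MvPolynomial.rename (R := k) (fun _ : PUnit.{u + 1} => i)).toRingHom ≠ ⊥) : P.IsMaximal := by
  have hint : Algebra.IsIntegral k (MvPolynomial ι k ⧸ P) := by
    have h1 : ∀ i : ι, IsIntegral k (Ideal.Quotient.mk P (MvPolynomial.X i)) := by
      intro i
      obtain ⟨f, hf, hf0⟩ := (Submodule.ne_bot_iff _).1 (h i)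
      rw [← isAlgebraic_iff_isIntegral]
      refine ⟨MvPolynomial.uniqueAlgEquiv k PUnit.{u + 1} f, fun h0 => hf0 ?_, ?_⟩
      · exact (map_eq_zero_iff _ (MvPolynomial.uniqueAlgEquiv k PUnit.{u + 1}).injective).1 h0
      · have h2 : (Polynomial.aeval (Ideal.Quotient.mk P (MvPolynomial.X i)) :
            Polynomial k →ₐ[k] MvPolynomial ι k ⧸ P).comp (MvPolynomial.uniqueAlgEquiv k PUnit.{u + 1}).toAlgHom =
            (Ideal.Quotient.mkₐ k P).comp (MvPolynomial.rename (R := k) (fun _ : PUnit.{u + 1} => i)) := by
          ext x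
          simp [MvPolynomial.uniqueAlgEquiv]
        have h3 := congrArg (fun g => g f) h2
        refine h3.trans ?_
        exact Ideal.Quotient.eq_zero_iff_mem.2 hf
    refine ⟨fun x => ?_⟩
    obtain ⟨x, rfl⟩ := Ideal.Quotient.mk_surjective x
    induction x using MvPolynomial.induction_on with
    | C a => exact isIntegral_algebraMap (R := k) (A := MvPolynomial ι k ⧸ P) (x := a)
    | add p q hp hq => rw [map_add]; exact hp.add hq
    | mul_X p i hp => rw [map_mul]; exact hp.mul (h1 i)
  exact Ideal.Quotient.maximal_of_isField P (isField_of_isIntegral_of_isField' (Field.toIsField k))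

end Alg

section Aff

theorem SpecIso_inv_reindex (R : CommRingCat.{u}) {n m : Type u} (i : m → n) :
    (AffineSpace.SpecIso n R).inv ≫ AffineSpace.reindex i (Spec R) =
      Spec.map (CommRingCat.ofHom (MvPolynomial.rename (R := R) i).toRingHom) ≫ (AffineSpace.SpecIso m R).inv := by
  apply AffineSpace.hom_ext
  · rw [Category.assoc, AffineSpace.reindex_over, AffineSpace.SpecIso_inv_over, Category.assoc,
      AffineSpace.SpecIso_inv_over, ← Spec.map_comp, ← CommRingCat.ofHom_comp]
    congr 2
    exact RingHom.ext fun x => (MvPolynomial.rename_C i x).symm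
  · intro j
    rw [Scheme.Hom.comp_appTop, Scheme.Hom.comp_appTop, CommRingCat.comp_apply, CommRingCat.comp_apply,
      AffineSpace.reindex_appTop_coord, AffineSpace.SpecIso_inv_appTop_coord, AffineSpace.SpecIso_inv_appTop_coord,
      ← CommRingCat.comp_apply, ← Scheme.ΓSpecIso_inv_naturality, CommRingCat.comp_apply]
    congr 1
    exact (MvPolynomial.rename_X i j).symm

/-- A point of affine space none of whose coordinates is the generic point of the affine line is closed. -/
theorem isClosed_singleton {k : Type u} [Field k] {ι : Type u} (y : 𝔸(ι; Spec (CommRingCat.of k)))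
    (h : ∀ i : ι, closure {AffineSpace.reindex (fun _ : PUnit.{u + 1} => i) (Spec (CommRingCat.of k)) y} ≠ Set.univ) :
    IsClosed ({y} : Set 𝔸(ι; Spec (CommRingCat.of k))) := by
  let e := AffineSpace.SpecIso ι (CommRingCat.of k)
  obtain ⟨p, rfl⟩ : ∃ p, e.inv p = y := ⟨e.hom y, by rw [← Scheme.Hom.comp_apply, e.hom_inv_id]; rfl⟩
  have hmax : p.asIdeal.IsMaximal := by
    refine isMaximal_of_comap_ne_bot p.asIdeal fun i hi => h i ?_
    rw [← Scheme.Hom.comp_apply, SpecIso_inv_reindex, Scheme.Hom.comp_apply]
    set q := Spec.map (CommRingCat.ofHom (MvPolynomial.rename (R := (CommRingCat.of k))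
      (fun _ : PUnit.{u + 1} => i)).toRingHom) p with hq
    have hq0 : q.asIdeal = ⊥ := hi
    have h1 : closure ({q} : Set (Spec (CommRingCat.of (MvPolynomial PUnit.{u + 1} k)))) = Set.univ := by
      rw [Set.eq_univ_iff_forall]
      intro z
      rw [← specializes_iff_mem_closure]
      exact (PrimeSpectrum.le_iff_specializes q z).1 (show q.asIdeal ≤ z.asIdeal by rw [hq0]; exact bot_le)
    let e1 := AffineSpace.SpecIso PUnit.{u + 1} (CommRingCat.of k)
    have h2 : e1.inv '' closure ({q} : Set (Spec (CommRingCat.of (MvPolynomial PUnit.{u + 1} k)))) =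
        closure (e1.inv '' {q}) := e1.inv.homeomorph.image_closure _
    rw [h1, Set.image_univ, Set.image_singleton] at h2
    rw [← h2]
    exact e1.inv.homeomorph.surjective.range_eq
  have h1 : IsClosed ({p} : Set (Spec (CommRingCat.of (MvPolynomial ι k)))) :=
    (PrimeSpectrum.isClosed_singleton_iff_isMaximal p).2 hmax
  have h2 := e.inv.homeomorph.isClosedMap _ h1
  rw [Set.image_singleton] at h2
  exact h2

end Aff

section Finite

/-- A closed subset of a noetherian scheme all of whose points are closed is finite. -/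
theorem finite_of_isClosed_singleton {U : Type*} [TopologicalSpace U] [NoetherianSpace U] [QuasiSober U] (T : Set U)
    (hT : IsClosed T) (h : ∀ x ∈ T, IsClosed ({x} : Set U)) : T.Finite := by
  obtain ⟨S, hS, hirr, hTS⟩ := NoetherianSpace.exists_finite_set_closeds_irreducible (⟨T, hT⟩ : Closeds U)
  have h1 : ∀ t ∈ S, (t : Set U).Finite := by
    intro t ht
    obtain ⟨x, hx⟩ := QuasiSober.sober (hirr t ht) t.isClosed
    have hxT : x ∈ T := by
      have h2 : t ≤ (⟨T, hT⟩ : Closeds U) := by rw [hTS]; exact le_sSup ht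
      exact h2 (hx.mem)
    have h3 : (t : Set U) = {x} := by rw [← hx.def, (h x hxT).closure_eq]
    rw [h3]
    exact Set.finite_singleton x
  have h2 : T ⊆ ⋃ t ∈ S, (t : Set U) := by
    have h3 : ((⟨T, hT⟩ : Closeds U) : Set U) = ((sSup S : Closeds U) : Set U) := by rw [hTS]
    have h4 : ((sSup S : Closeds U) : Set U) ⊆ ⋃ t ∈ S, (t : Set U) := by
      have h5 : IsClosed (⋃ t ∈ S, (t : Set U)) := hS.isClosed_biUnion fun t _ => t.isClosed
      have h6 : sSup S ≤ (⟨_, h5⟩ : Closeds U) := sSup_le fun t ht x hx => Set.mem_biUnion ht hx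
      exact h6
    intro x hx
    exact h4 (h3 ▸ hx)
  exact (hS.biUnion h1).subset h2

/-- A point over a closed point is closed, for locally quasi-finite morphisms. -/
theorem isClosed_singleton_of_lqf {U X : Scheme.{u}} (f : U ⟶ X) [LocallyQuasiFinite f] (x : U)
    (h : IsClosed ({f x} : Set X)) : IsClosed ({x} : Set U) := by
  have h1 : IsClosed (f ⁻¹' {f x}) := h.preimage f.continuous
  have h2 := f.isDiscrete_preimage_singleton (f x)
  rw [isDiscrete_iff_discreteTopology] at h2
  have h3 : IsClosed (Subtype.val '' ({⟨x, rfl⟩} : Set (f ⁻¹' {f x}))) :=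
    h1.isClosedEmbedding_subtypeVal.isClosedMap _ (isClosed_discrete _)
  rwa [Set.image_singleton] at h3

end Finite

end Groth.Agent.SGA4h.K445.AffClosed
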