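import Groth.Agent.S3471
import Groth.Agent.Sga4h.StalkAcyc
import Groth.Agent.Etbc.H189.GeomFib
import Groth.Prelude.Def_EtRestW

/-!
# Local acyclicity in the explicit form implies local `n`-acyclicity for `L`

* `isLocAcyclicN_of_isLocallyAcyclic`: `EtRest.IsLocallyAcyclic f` implies `EtAcyc.IsLocAcyclicN f L N` for every `N`
  if the primes of `L` are invertible on the source (and `L` contains a prime).
-/

set_option autoImplicit false
universe u

open CategoryTheory CategoryTheory.Limits AlgebraicGeometry Opposite IsLocalRing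
open scoped TensorProduct

namespace Groth.Agent.SGA4h.K445.LocAcyc

open Groth.Agent.Sga4h.StalkAcyc

variable {X S : Scheme.{u}} (f : X ⟶ S)

theorem hpt_geomPt {RS RX : Type u} [CommRing RS] [CommRing RX] [Algebra RS RX]
    (y : Spec (CommRingCat.of RS)) (Ω : Type u) [Field Ω]
    [Algebra ((Spec (CommRingCat.of RS)).residueField y) Ω] (n : ℕ)
    (h : ∀ [Algebra RS Ω], HPt (Spec (CommRingCat.of (EtRest.vcRing RS RX Ω))) n) :
    HPt (pullback (Spec.map (CommRingCat.ofHom (algebraMap RS RX)))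
      (EtAcyc.geomPt (Spec (CommRingCat.of RS)) y Ω)) n := by
  obtain ⟨b, hb⟩ : ∃ b : RS →+* Ω, Spec.map (CommRingCat.ofHom b) =
      EtAcyc.geomPt (Spec (CommRingCat.of RS)) y Ω :=
    ⟨(Spec.preimage (EtAcyc.geomPt (Spec (CommRingCat.of RS)) y Ω)).hom, by
      rw [CommRingCat.ofHom_hom, Spec.map_preimage]⟩
  letI : Algebra RS Ω := b.toAlgebra
  rw [← hb]
  exact HPt.of_iso (pullbackSpecIso RS RX Ω).symm h

theorem connectedSpace_of_equiv (X : Scheme.{u}) {l : ℕ} (hl : l.Prime)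
    (h : Nonempty (EtCoh.H X (EtCoh.const X (ZMod l)) 0 ≃+ ZMod l)) :
    Nonempty X ∧ ConnectedSpace X :=
  Groth.Agent.Etbc.H189.GeomFib.connectedSpace_of_equiv X hl h

/-- Explicit local acyclicity implies local `N`-acyclicity for sets of primes invertible on the source. -/
theorem isLocAcyclicN_of_isLocallyAcyclic (hf : EtRest.IsLocallyAcyclic f) (L : Set ℕ)
    (hL : ∃ ℓ ∈ L, ℓ.Prime)
    (hL' : ∀ ℓ ∈ L, ℓ.Prime → ∀ x : X, (ℓ : X.residueField x) ≠ 0) (N : ℕ) :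
    EtAcyc.IsLocAcyclicN f L N := by
  rw [Groth.Agent.S3471.result f L hL N]
  intro x RS RX _ _ _ _ _ _ _ _ _ _ _ _ hc y Ω _ _ _ _
  have key : ∀ ℓ : ℕ, ℓ.Prime → ℓ ∈ L →
      HPt (pullback (Spec.map (CommRingCat.ofHom (algebraMap RS RX)))
        (EtAcyc.geomPt (Spec (CommRingCat.of RS)) y Ω)) ℓ := by
    intro ℓ hℓ hℓL
    refine hpt_geomPt y Ω ℓ ?_
    intro _
    exact hf x RS RX hc Ω ℓ (hL' ℓ hℓL hℓ x)
  obtain ⟨ℓ, hℓ, hp⟩ := hL
  obtain ⟨h1, h2⟩ := connectedSpace_of_equiv _ hp (key ℓ hp hℓ).2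
  exact ⟨h1, h2, fun l hl hlL q hq _ => (key l hl hlL).1 q hq⟩

end Groth.Agent.SGA4h.K445.LocAcyc
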